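import Mathlib

/-!
# Flatness of the map of perfect closures
-/

set_option autoImplicit false
universe u

namespace Groth.Agent.PerfClosure

theorem flat_of_flat (p : ℕ) [Fact p.Prime]
    {A B A' B' : Type u} [CommRing A] [CommRing B] [CommRing A'] [CommRing B']
    [CharP A p] [CharP B p] [CharP A' p] [CharP B' p] [PerfectRing A' p] [PerfectRing B' p]
    (φ : A →+* B) (hflat : φ.Flat) (i : A →+* A') (j : B →+* B') [IsPerfectClosure i p] [IsPerfectClosure j p]
    (φ' : A' →+* B') (hφ : φ'.comp i = j.comp φ) : φ'.Flat := by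
  classical
  letI := φ.toAlgebra
  letI := φ'.toAlgebra
  haveI : Module.Flat A B := hflat
  show Module.Flat A' B'
  refine Module.Flat.of_forall_isTrivialRelation fun {l f x} hfx => ?_
  choose nf af haf using fun t : Fin l => IsPRadical.pow_mem i p (f t)
  choose nx bx hbx using fun t : Fin l => IsPRadical.pow_mem j p (x t)
  let N := Finset.univ.sup nf ⊔ Finset.univ.sup nx
  have hfN : ∀ t, nf t ≤ N := fun t => (Finset.le_sup (Finset.mem_univ t)).trans le_sup_left
  have hxN : ∀ t, nx t ≤ N := fun t => (Finset.le_sup (Finset.mem_univ t)).trans le_sup_right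
  let a : Fin l → A := fun t => af t ^ p ^ (N - nf t)
  let b : Fin l → B := fun t => bx t ^ p ^ (N - nx t)
  have ha : ∀ t, i (a t) = f t ^ p ^ N := fun t => by
    rw [map_pow, haf, ← pow_mul, ← pow_add, Nat.add_sub_cancel' (hfN t)]
  have hb : ∀ t, j (b t) = x t ^ p ^ N := fun t => by
    rw [map_pow, hbx, ← pow_mul, ← pow_add, Nat.add_sub_cancel' (hxN t)]
  have hj : j (∑ t, φ (a t) * b t) = 0 := by
    have h1 := congrArg (fun z => z ^ p ^ N) hfx
    simp only [zero_pow (pow_ne_zero N (Fact.out : p.Prime).ne_zero)] at h1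
    rw [sum_pow_char_pow] at h1
    rw [map_sum, ← h1]
    refine Finset.sum_congr rfl fun t _ => ?_
    rw [map_mul, ← RingHom.comp_apply, ← hφ, RingHom.comp_apply, ha, hb, Algebra.smul_def, mul_pow]
    exact congrArg (· * _) (map_pow φ' _ _)
  obtain ⟨M, hM⟩ := mem_pNilradical.1 (IsPRadical.ker_le j p (RingHom.mem_ker.2 hj))
  rw [sum_pow_char_pow] at hM
  have hrel : ∑ t, (a t ^ p ^ M) • (b t ^ p ^ M) = (0 : B) := by
    rw [← hM]
    refine Finset.sum_congr rfl fun t _ => ?_
    rw [Algebra.smul_def, mul_pow, ← map_pow φ]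
    rfl
  obtain ⟨k, α, y, h1, h2⟩ := Module.Flat.isTrivialRelation_of_sum_smul_eq_zero (R := A) (M := B)
    (f := fun t => a t ^ p ^ M) (x := fun t => b t ^ p ^ M) (by exact hrel)
  simp only at h1 h2
  let EA := iterateFrobeniusEquiv A' p (N + M)
  let EB := iterateFrobeniusEquiv B' p (N + M)
  have hroot : ∀ z : A', φ' (EA.symm z) = EB.symm (φ' z) := fun z => by
    apply EB.injective
    rw [RingEquiv.apply_symm_apply, iterateFrobeniusEquiv_def, ← map_pow, ← iterateFrobeniusEquiv_def,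
      RingEquiv.apply_symm_apply]
  refine ⟨k, fun t s => EA.symm (i (α t s)), fun s => EB.symm (j (y s)), fun t => ?_, fun s => ?_⟩
  · apply EB.injective
    rw [map_sum, iterateFrobeniusEquiv_def, pow_add, pow_mul, ← hb, ← map_pow, h1 t, map_sum]
    refine Finset.sum_congr rfl fun s _ => ?_
    rw [Algebra.smul_def, Algebra.smul_def, map_mul, map_mul,
      show algebraMap A' B' (EA.symm (i (α t s))) = EB.symm (φ' (i (α t s))) from hroot _,
      RingEquiv.apply_symm_apply, RingEquiv.apply_symm_apply, ← RingHom.comp_apply φ', hφ]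
    rfl
  · apply EA.injective
    rw [map_sum, map_zero, ← map_zero i, ← h2 s, map_sum]
    refine Finset.sum_congr rfl fun t _ => ?_
    rw [map_mul, map_mul, RingEquiv.apply_symm_apply, map_pow, ha, iterateFrobeniusEquiv_def, ← pow_mul, ← pow_add]

theorem exists_prime_over (p : ℕ) [Fact p.Prime] {B B' : Type u} [CommRing B] [CommRing B']
    (j : B →+* B') [IsPRadical j p] (Q : Ideal B) [Q.IsPrime] :
    ∃ Q' : Ideal B', Q'.IsPrime ∧ Q'.comap j = Q := by
  letI := j.toAlgebra
  haveI : Algebra.IsIntegral B B' := ⟨fun x => by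
    obtain ⟨n, y, hy⟩ := IsPRadical.pow_mem j p x
    refine IsIntegral.of_pow (pow_pos (Fact.out : p.Prime).pos n) ?_
    rw [← hy]
    exact isIntegral_algebraMap⟩
  obtain ⟨Q', -, h1, h2⟩ := Ideal.exists_ideal_over_prime_of_isIntegral Q (⊥ : Ideal B') fun x hx => by
    obtain ⟨k, hk⟩ := mem_pNilradical.1 (IsPRadical.ker_le j p (RingHom.mem_ker.2 hx))
    exact Ideal.IsPrime.mem_of_pow_mem ‹_› _ (hk ▸ Q.zero_mem)
  exact ⟨Q', h1, h2⟩

theorem comap_injective (p : ℕ) [Fact p.Prime] {A A' : Type u} [CommRing A] [CommRing A']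
    (i : A →+* A') [IsPRadical i p] (P₁ P₂ : Ideal A') [P₁.IsPrime] [P₂.IsPrime]
    (h : P₁.comap i = P₂.comap i) : P₁ = P₂ := by
  have key : ∀ (P P' : Ideal A'), P'.IsPrime → P.comap i ≤ P'.comap i → P ≤ P' := fun P P' hP' hle x hx => by
    obtain ⟨n, y, hy⟩ := IsPRadical.pow_mem i p x
    have : i y ∈ P := hy ▸ P.pow_mem_of_mem hx _ (pow_pos (Fact.out : p.Prime).pos n)
    exact hP'.mem_of_pow_mem (p ^ n) (by have h2 : i y ∈ P' := hle this; rwa [hy] at h2)
  exact le_antisymm (key _ _ ‹_› h.le) (key _ _ ‹_› h.ge)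

end Groth.Agent.PerfClosure
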